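import Mathlib

/-!
# Separable degree of the residue field of a finite local algebra and base change
-/

universe u

namespace Groth.Agent.Helper19.SepDeg

open TensorProduct

/-- Homs out of a surjective image. -/
theorem card_algHom_of_surjective {R A B C : Type*} [CommRing R] [CommRing A] [CommRing B]
    [CommRing C] [Algebra R A] [Algebra R B] [Algebra R C] (π : A →ₐ[R] B)
    (hπ : Function.Surjective π) :
    Nat.card (B →ₐ[R] C) =
      Nat.card {g : A →ₐ[R] C // RingHom.ker π.toRingHom ≤ RingHom.ker g.toRingHom} := by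
  refine Nat.card_eq_of_bijective (fun χ => ⟨χ.comp π, ?_⟩) ⟨?_, ?_⟩
  · intro a ha
    rw [RingHom.mem_ker] at ha ⊢
    show χ (π a) = 0
    have h : π a = 0 := ha
    rw [h, map_zero]
  · intro χ₁ χ₂ h
    have h' : χ₁.comp π = χ₂.comp π := congrArg Subtype.val h
    exact (AlgHom.cancel_right hπ).mp h'
  · rintro ⟨g, hg⟩
    exact ⟨AlgHom.liftOfSurjective π hπ g hg,
      Subtype.ext (AlgHom.liftOfSurjective_comp π hπ g hg)⟩

theorem card_fiber {F B L Ω : Type*} [Field F] [CommRing B] [Field L] [Field Ω] [Algebra F B]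
    [Algebra F L] [Algebra F Ω] (m : Ideal B) [hm : m.IsMaximal] (π : B →ₐ[F] L)
    (hπ : Function.Surjective π) (hker : RingHom.ker π.toRingHom = m) :
    Nat.card (L →ₐ[F] Ω) = Nat.card {g : B →ₐ[F] Ω // RingHom.ker g.toRingHom = m} := by
  rw [card_algHom_of_surjective π hπ]
  refine Nat.card_congr (Equiv.subtypeEquivRight fun g => ?_)
  rw [hker]
  constructor
  · intro h
    exact (hm.eq_of_le (RingHom.ker_ne_top _) h).symm
  · intro h
    rw [h]

theorem card_total {F B Ω : Type*} [Field F] [CommRing B] [Field Ω] [Algebra F B] [Algebra F Ω]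
    [Module.Finite F B] :
    Nat.card (B →ₐ[F] Ω) = ∑ᶠ m : MaximalSpectrum B,
      Nat.card {g : B →ₐ[F] Ω // RingHom.ker g.toRingHom = m.asIdeal} := by
  haveI : IsArtinianRing B := IsArtinianRing.of_finite F B
  haveI : Finite (MaximalSpectrum B) := inferInstance
  haveI := Fintype.ofFinite (MaximalSpectrum B)
  haveI : Finite (B →ₐ[F] Ω) := inferInstance
  have hmax : ∀ g : B →ₐ[F] Ω, (RingHom.ker g.toRingHom).IsMaximal := fun g => by
    haveI : (RingHom.ker g.toRingHom).IsPrime := RingHom.ker_isPrime _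
    exact IsArtinianRing.isMaximal_of_isPrime _
  let K : (B →ₐ[F] Ω) → MaximalSpectrum B := fun g => ⟨RingHom.ker g.toRingHom, hmax g⟩
  rw [finsum_eq_sum_of_fintype, ← Nat.card_congr (Equiv.sigmaFiberEquiv K), Nat.card_sigma]
  refine Finset.sum_congr rfl fun m _ => ?_
  refine Nat.card_congr (Equiv.subtypeEquivRight fun g => ?_)
  constructor
  · intro h
    exact congrArg MaximalSpectrum.asIdeal h
  · intro h
    exact MaximalSpectrum.ext h

theorem card_baseChange {k k' A Ω : Type*} [Field k] [Field k'] [CommRing A] [Field Ω]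
    [Algebra k k'] [Algebra k A] [Algebra k Ω] [Algebra k' Ω] [IsScalarTower k k' Ω] :
    Nat.card (k' ⊗[k] A →ₐ[k'] Ω) = Nat.card (A →ₐ[k] Ω) := by
  refine Nat.card_eq_of_bijective
    (fun φ => (φ.restrictScalars k).comp Algebra.TensorProduct.includeRight) ⟨?_, ?_⟩
  · intro φ₁ φ₂ h
    apply Algebra.TensorProduct.ext
    · exact AlgHom.ext fun x =>
        ((φ₁.comp Algebra.TensorProduct.includeLeft).commutes x).trans
          ((φ₂.comp Algebra.TensorProduct.includeLeft).commutes x).symm
    · exact h
  · intro ψ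
    refine ⟨Algebra.TensorProduct.lift (Algebra.ofId k' Ω) ψ (fun _ _ => Commute.all _ _), ?_⟩
    ext a
    simp

theorem card_local {k A Ω : Type*} [Field k] [CommRing A] [IsLocalRing A] [Field Ω] [Algebra k A]
    [Algebra k Ω] [Module.Finite k A] :
    Nat.card (IsLocalRing.ResidueField A →ₐ[k] Ω) = Nat.card (A →ₐ[k] Ω) := by
  haveI : IsArtinianRing A := IsArtinianRing.of_finite k A
  have hπ : Function.Surjective (IsScalarTower.toAlgHom k A (IsLocalRing.ResidueField A)) :=
    IsLocalRing.residue_surjective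
  rw [card_algHom_of_surjective (IsScalarTower.toAlgHom k A (IsLocalRing.ResidueField A)) hπ]
  refine Nat.card_congr (Equiv.subtypeUnivEquiv fun g => ?_)
  haveI : (RingHom.ker g.toRingHom).IsPrime := RingHom.ker_isPrime _
  have hmax : (RingHom.ker g.toRingHom).IsMaximal := IsArtinianRing.isMaximal_of_isPrime _
  rw [IsLocalRing.eq_maximalIdeal hmax]
  intro a ha
  rw [RingHom.mem_ker] at ha
  have h2 : IsLocalRing.residue A a = 0 := ha
  exact (IsLocalRing.residue_eq_zero_iff a).mp h2

theorem main (k A k' : Type u) [Field k] [CommRing A] [Algebra k A]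
    [Module.Finite k A] [IsLocalRing A] [Field k'] [Algebra k k'] :
    Field.finSepDegree k (IsLocalRing.ResidueField A) =
      ∑ᶠ m : MaximalSpectrum (k' ⊗[k] A),
        Field.finSepDegree k' (IsLocalRing.ResidueField (Localization.AtPrime m.asIdeal)) := by
  haveI : Algebra.IsAlgebraic k (IsLocalRing.ResidueField A) := Algebra.IsAlgebraic.of_finite _ _
  rw [Field.finSepDegree_eq_of_isAlgClosed k (IsLocalRing.ResidueField A) (AlgebraicClosure k'),
    card_local, ← card_baseChange (k' := k'), card_total]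
  refine finsum_congr fun m => ?_
  haveI : Module.Finite k' m.asIdeal.ResidueField :=
    Module.Finite.of_surjective
      (IsScalarTower.toAlgHom k' (k' ⊗[k] A) m.asIdeal.ResidueField).toLinearMap
      (Ideal.algebraMap_residueField_surjective m.asIdeal)
  haveI : Algebra.IsAlgebraic k' m.asIdeal.ResidueField := Algebra.IsAlgebraic.of_finite _ _
  have h1 := Field.finSepDegree_eq_of_isAlgClosed k' m.asIdeal.ResidueField (AlgebraicClosure k')
  rw [h1]
  exact (card_fiber m.asIdeal (IsScalarTower.toAlgHom k' (k' ⊗[k] A) m.asIdeal.ResidueField)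
    (Ideal.algebraMap_residueField_surjective m.asIdeal)
    (Ideal.ker_algebraMap_residueField m.asIdeal)).symm

end Groth.Agent.Helper19.SepDeg
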